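import Mathlib

set_option autoImplicit false
universe u

namespace Groth.Agent.DiagClos8
open TensorProduct MvPolynomial

theorem core (k : Type u) [Field k] [IsAlgClosed k] (L : ℕ → Type u) [∀ n, Field (L n)] [∀ n, Algebra k (L n)]
    (ι : Type u) [Fintype ι] (u v : ∀ n, ι → L n) (h0 : ∀ n, ∑ s, u n s * v n s = 0)
    (hnil : ∀ n m, n ≠ m → IsNilpotent ((∑ s, u n s ⊗ₜ[k] v m s) - 1)) : False := by
  classical
  let P : ℕ → Ideal (MvPolynomial ι k) := fun n => RingHom.ker (aeval (R := k) (v n))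
  have hP : ∀ n, (P n).IsPrime := fun n => RingHom.ker_isPrime _
  obtain ⟨I, hI, hmax⟩ := set_has_maximal_iff_noetherian.mpr (inferInstance : IsNoetherian (MvPolynomial ι k) (MvPolynomial ι k))
    {I : Ideal (MvPolynomial ι k) | {n | I ≤ P n}.Infinite}
    ⟨⊥, by simpa using Set.infinite_univ⟩
  obtain ⟨n, hn⟩ := hI.nonempty
  let S : Set ℕ := {m | I ≤ P m} \ {n}
  have hS : S.Infinite := hI.diff (Set.finite_singleton n)
  have hinter : ∀ f, (∀ m ∈ S, f ∈ P m) → f ∈ P n := by
    intro f hf
    by_contra hfn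
    refine hmax (I ⊔ Ideal.span {f}) ?_ ?_
    · refine hS.mono fun m hm => ?_
      exact sup_le hm.1 ((Ideal.span_singleton_le_iff_mem _).mpr (hf m hm))
    · refine lt_of_le_of_ne le_sup_left fun h => hfn (hn ?_)
      rw [h]
      exact Submodule.mem_sup_right (Ideal.mem_span_singleton_self f)
  let x : L n ⊗[k] MvPolynomial ι k := (∑ s, u n s ⊗ₜ[k] (X s : MvPolynomial ι k)) - 1
  let Λ : (L n →ₗ[k] k) → (L n ⊗[k] MvPolynomial ι k) →ₗ[k] MvPolynomial ι k :=
    fun l => (TensorProduct.lid k _).toLinearMap ∘ₗ (l.rTensor _)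
  have hΛ : ∀ (l : L n →ₗ[k] k) (a : L n) (q : MvPolynomial ι k), Λ l (a ⊗ₜ q) = l a • q := fun l a q => by simp [Λ]
  have hnat : ∀ (m : ℕ) (l : L n →ₗ[k] k) (z : L n ⊗[k] MvPolynomial ι k),
      aeval (v m) (Λ l z) = TensorProduct.lid k _ (l.rTensor (L m) (Algebra.TensorProduct.map (AlgHom.id k (L n)) (aeval (v m)) z)) := by
    intro m l z
    induction z using TensorProduct.induction_on with
    | zero => simp
    | tmul a q => simp [hΛ]
    | add a b ha hb => simp only [map_add, ha, hb]
  have hev : ∀ (c : ι → k) (l : L n →ₗ[k] k) (z : L n ⊗[k] MvPolynomial ι k),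
      eval c (Λ l z) = l (Algebra.TensorProduct.lift (AlgHom.id k (L n)) ((Algebra.ofId k (L n)).comp (aeval c)) (fun _ _ => Commute.all _ _) z) := by
    intro c l z
    induction z using TensorProduct.induction_on with
    | zero => simp
    | tmul a q =>
      simp only [hΛ, smul_eval, Algebra.TensorProduct.lift_tmul, AlgHom.id_apply, AlgHom.comp_apply, Algebra.ofId_apply]
      rw [← Algebra.commutes, ← Algebra.smul_def, map_smul, smul_eq_mul, mul_comm]
      congr 1
    | add a b ha hb => simp only [map_add, ha, hb]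
  -- the coefficients of x lie in every P m
  have hmem : ∀ m ∈ S, ∀ l, Λ l x ∈ P m := by
    intro m hm l
    obtain ⟨N, hN⟩ := hnil n m (fun h => hm.2 h.symm)
    have hx : Algebra.TensorProduct.map (AlgHom.id k (L n)) (aeval (v m)) (x ^ N) = 0 := by
      rw [map_pow, ← hN]
      congr 1
      simp [x, map_sum]
    have hxN : ∀ l, Λ l (x ^ N) ∈ P m := by
      intro l
      show aeval (v m) _ = 0
      rw [hnat, hx, map_zero, map_zero]
    haveI := hP m
    rw [← Ideal.IsPrime.radical (hP m), ← vanishingIdeal_zeroLocus_eq_radical (K := k), mem_vanishingIdeal_iff]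
    intro c hc
    show eval c (Λ l x) = 0
    set E := Algebra.TensorProduct.lift (AlgHom.id k (L n)) ((Algebra.ofId k (L n)).comp (aeval c)) (fun _ _ => Commute.all _ _) with hE
    have : E x = 0 := by
      apply eq_zero_of_pow_eq_zero (n := N)
      rw [← map_pow]
      refine (Module.forall_dual_apply_eq_zero_iff k _).mp fun l' => ?_
      rw [← hev]
      exact hc _ (hxN l')
    rw [hev, this, map_zero]
  have hz : (∑ s, u n s ⊗ₜ[k] v n s) - 1 = (0 : L n ⊗[k] L n) := by
    let b := Module.Basis.ofVectorSpace k (L n)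
    apply (TensorProduct.equivFinsuppOfBasisLeft b).injective
    rw [map_zero]
    ext i
    have h := hinter _ (fun m hm => hmem m hm (b.coord i))
    change aeval (v n) _ = 0 at h
    rw [hnat] at h
    rw [TensorProduct.equivFinsuppOfBasisLeft_apply, Finsupp.zero_apply, ← h]
    simp [x, map_sum]
  have := congrArg (Algebra.TensorProduct.lmul' (S := L n) k) hz
  simp [map_sum, h0] at this

theorem main (A : Type u) [CommRing A] (k : Type u) [Field k] (K : ℕ → Type u) [∀ n, Field (K n)]
    [∀ n, Algebra A (K n)] [∀ n, Algebra k (K n)] (f : ∀ n m, A ⊗[ℤ] A →+* K n ⊗[k] K m)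
    (hf : ∀ n m a b, f n m (a ⊗ₜ b) = algebraMap A (K n) a ⊗ₜ[k] algebraMap A (K m) b) :
    (closure (⋃ (n : ℕ) (m : ℕ) (_ : n ≠ m), Set.range (PrimeSpectrum.comap (f n m))) ∩
      Set.range (PrimeSpectrum.comap (Algebra.TensorProduct.lmul' (S := A) ℤ).toRingHom)).Nonempty := by
  classical
  set U := ⋃ (n : ℕ) (m : ℕ) (_ : n ≠ m), Set.range (PrimeSpectrum.comap (f n m))
  by_contra hne
  rw [Set.not_nonempty_iff_eq_empty, ← PrimeSpectrum.zeroLocus_vanishingIdeal_eq_closure,
    range_comap_of_surjective _ _ (fun a => ⟨a ⊗ₜ 1, by simp⟩), ← PrimeSpectrum.zeroLocus_sup,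
    PrimeSpectrum.zeroLocus_empty_iff_eq_top, Ideal.eq_top_iff_one, Submodule.mem_sup] at hne
  obtain ⟨i, hi, j, hj, hij⟩ := hne
  obtain ⟨s, hs⟩ := TensorProduct.exists_finset j
  let k' := AlgebraicClosure k
  let L : ℕ → Type u := fun n => AlgebraicClosure (K n)
  let e : ∀ n, k' →ₐ[k] L n := fun n => IsAlgClosed.lift
  letI : ∀ n, Algebra k' (L n) := fun n => (e n).toRingHom.toAlgebra
  haveI : ∀ n, IsScalarTower k k' (L n) := fun n => IsScalarTower.of_algebraMap_eq fun r => ((e n).commutes r).symm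
  refine core k' L s (fun n t => algebraMap (K n) (L n) (algebraMap A (K n) t.1.1)) (fun n t => algebraMap (K n) (L n) (algebraMap A (K n) t.1.2)) ?_ ?_
  · intro n
    have h1 : ∑ t : s, t.1.1 * t.1.2 = 0 := by
      rw [Finset.sum_coe_sort s (fun t => t.1 * t.2)]
      have := RingHom.mem_ker.mp hj
      rw [hs] at this
      simpa [map_sum] using this
    simp only [← map_mul, ← map_sum, h1, map_zero]
  · intro n m hnm
    let g1 : K n →ₐ[k] L n ⊗[k'] L m :=
      (Algebra.TensorProduct.includeLeft (R := k') (S := k) (A := L n) (B := L m)).comp (IsScalarTower.toAlgHom k (K n) (L n))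
    let g2 : K m →ₐ[k] L n ⊗[k'] L m :=
      { (Algebra.TensorProduct.includeRight (R := k') (A := L n) (B := L m)).toRingHom.comp (algebraMap (K m) (L m)) with
        commutes' := fun r => by
          show (1 : L n) ⊗ₜ[k'] algebraMap (K m) (L m) (algebraMap k (K m) r) = algebraMap k (L n) r ⊗ₜ 1
          rw [← IsScalarTower.algebraMap_apply, IsScalarTower.algebraMap_apply k k' (L m), IsScalarTower.algebraMap_apply k k' (L n), Algebra.algebraMap_eq_smul_one, Algebra.algebraMap_eq_smul_one (A := L n) (algebraMap k k' r), TensorProduct.smul_tmul] }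
    let G := Algebra.TensorProduct.lift g1 g2 (fun _ _ => Commute.all _ _)
    have h1 : IsNilpotent (f n m i) := by
      rw [nilpotent_iff_mem_prime]
      intro Q hQ
      exact (PrimeSpectrum.mem_vanishingIdeal _ _).mp hi (PrimeSpectrum.comap (f n m) ⟨Q, hQ⟩)
        (Set.mem_iUnion₂.mpr ⟨n, m, Set.mem_iUnion.mpr ⟨hnm, _, rfl⟩⟩)
    have h2 := (h1.map G).neg
    have h3 : i = 1 - j := eq_sub_of_add_eq hij
    suffices h4 : -G (f n m i) = (∑ t : s, algebraMap (K n) (L n) (algebraMap A (K n) t.1.1) ⊗ₜ[k'] algebraMap (K m) (L m) (algebraMap A (K m) t.1.2)) - 1 by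
      rw [← h4]; exact h2
    rw [h3, hs, map_sub, map_one, map_sum, map_sub, map_one, map_sum, neg_sub, ← Finset.sum_coe_sort s]
    congr 1
    refine Finset.sum_congr rfl fun t _ => ?_
    rw [hf]
    simp [G, g1, g2]

end Groth.Agent.DiagClos8
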